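import Groth.Agent.Gaga.H976.Defs
import Groth.Agent.S4308
import Groth.Agent.Sga67.CohBasic
import Mathlib.AlgebraicGeometry.Morphisms.Proper

/-!
# Algebraic analytic sheaves are stable under fibre products and kernels

`alg_pullback`: `X` reduced and proper over `ℂ`; given full faithfulness (S4309), fibre products of
analytifications of coherent sheaves are analytifications of coherent sheaves.
-/

set_option autoImplicit false

open CategoryTheory CategoryTheory.Limits AlgebraicGeometry TopologicalSpace Opposite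

noncomputable section

namespace Groth.Agent.Gaga.H146.AlgPullback

open Groth.Agent.Gaga.H976.Defs

/-- Fibre products of coherent modules are coherent. -/
theorem isCoh_pullback {X : Scheme.{0}} [IsLocallyNoetherian X] {M N P : X.Modules} (hM : Coh.IsCoh M)
    (hN : Coh.IsCoh N) (hP : Coh.IsCoh P) (a : M ⟶ P) (b : N ⟶ P) : Coh.IsCoh (pullback a b) := by
  let e : M ⊞ N ⟶ P := biprod.fst ≫ a - biprod.snd ≫ b
  have hk : Coh.IsCoh (kernel e) := Sga67.CohBasic.isCoh_kernel e (Sga67.CohBasic.isCoh_biprod hM hN) hP.1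
  have hc : kernel.ι e ≫ biprod.fst ≫ a = kernel.ι e ≫ biprod.snd ≫ b := by
    have h := kernel.condition e
    simp only [e, Preadditive.comp_sub] at h
    exact sub_eq_zero.1 h
  refine Sga67.CohBasic.isCoh_of_iso (M := kernel e) ?_ hk
  refine ⟨pullback.lift (kernel.ι e ≫ biprod.fst) (kernel.ι e ≫ biprod.snd) (by simpa using hc),
    kernel.lift e (biprod.lift (pullback.fst a b) (pullback.snd a b))
      (by simp [e, Preadditive.comp_sub, pullback.condition]), ?_, ?_⟩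
  · rw [← cancel_mono (kernel.ι e)]
    apply biprod.hom_ext
    · rw [Category.assoc, Category.assoc, kernel.lift_ι_assoc, biprod.lift_fst, pullback.lift_fst,
        Category.id_comp]
    · rw [Category.assoc, Category.assoc, kernel.lift_ι_assoc, biprod.lift_snd, pullback.lift_snd,
        Category.id_comp]
  · apply pullback.hom_ext
    · rw [Category.assoc, pullback.lift_fst, kernel.lift_ι_assoc, biprod.lift_fst, Category.id_comp]
    · rw [Category.assoc, pullback.lift_snd, kernel.lift_ι_assoc, biprod.lift_snd, Category.id_comp]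

/-- [APB] -/
theorem alg_pullback {X : Scheme.{0}} [X.Over An.SC] [IsReduced X] [IsProper (X ↘ An.SC)]
    (h4309 : ∀ M N : X.Modules, Coh.IsCoh M → Coh.IsCoh N →
      Function.Bijective ((An.analytify X).map : (M ⟶ N) → ((An.analytify X).obj M ⟶ (An.analytify X).obj N)))
    {N₁ N₂ N₃ : An.AnMod X} (h₁ : Alg N₁) (h₂ : Alg N₂) (h₃ : Alg N₃) (a : N₁ ⟶ N₃) (b : N₂ ⟶ N₃) :
    Alg (Limits.pullback a b) := by
  obtain ⟨M₁, hM₁, ⟨e₁⟩⟩ := h₁
  obtain ⟨M₂, hM₂, ⟨e₂⟩⟩ := h₂
  obtain ⟨M₃, hM₃, ⟨e₃⟩⟩ := h₃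
  obtain ⟨α, hα⟩ := (h4309 M₁ M₃ hM₁ hM₃).2 (e₁.hom ≫ a ≫ e₃.inv)
  obtain ⟨β, hβ⟩ := (h4309 M₂ M₃ hM₂ hM₃).2 (e₂.hom ≫ b ≫ e₃.inv)
  have hX : IsLocallyNoetherian X := LocallyOfFiniteType.isLocallyNoetherian (X ↘ An.SC)
  have hlim : PreservesFiniteLimits (An.analytify X) := (Groth.Agent.S4308.result X).1
  refine ⟨pullback α β, isCoh_pullback hM₁ hM₂ hM₃ α β, ⟨?_⟩⟩
  refine PreservesPullback.iso (An.analytify X) α β ≪≫ asIso (pullback.map ((An.analytify X).map α)
    ((An.analytify X).map β) a b e₁.hom e₂.hom e₃.hom ?_ ?_)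
  · rw [hα]; simp
  · rw [hβ]; simp

/-- Kernels of morphisms between algebraic analytic sheaves are algebraic. -/
theorem alg_kernel {X : Scheme.{0}} [X.Over An.SC] [IsReduced X] [IsProper (X ↘ An.SC)]
    (h4309 : ∀ M N : X.Modules, Coh.IsCoh M → Coh.IsCoh N →
      Function.Bijective ((An.analytify X).map : (M ⟶ N) → ((An.analytify X).obj M ⟶ (An.analytify X).obj N)))
    {N₁ N₂ : An.AnMod X} (h₁ : Alg N₁) (h₂ : Alg N₂) (a : N₁ ⟶ N₂) : Alg (Limits.kernel a) := by
  obtain ⟨M₁, hM₁, ⟨e₁⟩⟩ := h₁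
  obtain ⟨M₂, hM₂, ⟨e₂⟩⟩ := h₂
  obtain ⟨α, hα⟩ := (h4309 M₁ M₂ hM₁ hM₂).2 (e₁.hom ≫ a ≫ e₂.inv)
  have hX : IsLocallyNoetherian X := LocallyOfFiniteType.isLocallyNoetherian (X ↘ An.SC)
  have hlim : PreservesFiniteLimits (An.analytify X) := (Groth.Agent.S4308.result X).1
  refine ⟨kernel α, Sga67.CohBasic.isCoh_kernel α hM₁ hM₂.1, ⟨?_⟩⟩
  refine PreservesKernel.iso (An.analytify X) α ≪≫ asIso (kernel.map ((An.analytify X).map α) a
    e₁.hom e₂.hom ?_)
  rw [hα]; simp

end Groth.Agent.Gaga.H146.AlgPullback
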